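import Groth.Agent.ThickPush.Scheme
import Mathlib.CategoryTheory.Limits.Shapes.Pullback.IsPullback.Basic

/-!
# The universal properties of the pushout of a thickening
-/

set_option autoImplicit false
set_option linter.unusedSectionVars false
set_option backward.isDefEq.respectTransparency false
universe u

open CategoryTheory CategoryTheory.Limits AlgebraicGeometry TopologicalSpace Opposite

namespace Groth.Agent.ThickPush

variable {X X' Y : Scheme.{u}} (t : X ⟶ X') [IsClosedImmersion t] [Surjective t] (f : X ⟶ Y)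
variable [IsAffineHom f]

theorem bMor_apply (y : Y) : bMor t f y = y := rfl

theorem gMor_apply (p : X') : gMor t f p = gMap t f p := rfl

theorem bMor_app (O : Y.Opens) (z : sec t f O) : (bMor t f).app O z = z.1.1 := rfl

theorem gMor_app (O : Y.Opens) (z : sec t f O) : (gMor t f).app O z = z.1.2 := rfl

theorem condition : t ≫ gMor t f = f ≫ bMor t f := by
  refine Scheme.Hom.ext (TopCat.ext fun q => gMap_t t f q) fun O => ?_
  ext z
  have hz := sec_prop t f (O := O) z
  rw [Scheme.Hom.appLE, Scheme.Hom.appLE] at hz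
  change X.presheaf.map _ (t.app (pre t f O) z.1.2) = f.app O z.1.1
  exact hz.symm.trans congr($(X.presheaf.map_id _) (f.app O z.1.1))

instance surjective_bMor : Surjective (bMor t f) := ⟨fun y => ⟨y, rfl⟩⟩

instance isClosedImmersion_bMor : IsClosedImmersion (bMor t f) where
  isClosedEmbedding := (Homeomorph.refl Y).isClosedEmbedding
  stalkMap_surjective y σ := by
    obtain ⟨W, hy, c, rfl⟩ := Y.presheaf.exists_germ_eq σ
    obtain ⟨V, hV, hyV, hVW⟩ := exists_isAffineOpen_mem_and_subset (X := Y) (x := y) (U := W) hy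
    obtain ⟨z, hz⟩ := fst_surjective t f hV (Y.presheaf.map (homOfLE hVW).op c)
    refine ⟨(scheme t f).presheaf.germ V y hyV z, ?_⟩
    refine (Scheme.Hom.germ_stalkMap_apply (bMor t f) V y hyV z).trans ?_
    change Y.presheaf.germ V y hyV z.1.1 = Y.presheaf.germ W y hy c
    rw [hz]
    exact TopCat.Presheaf.germ_res_apply Y.presheaf (homOfLE hVW) y hyV c

theorem hom_ext {Z : Scheme.{u}} {m m' : scheme t f ⟶ Z} (h₁ : bMor t f ≫ m = bMor t f ≫ m')
    (h₂ : gMor t f ≫ m = gMor t f ≫ m') : m = m' := by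
  have hb : m.base = m'.base := TopCat.ext fun y => congr($h₁ y)
  refine Scheme.Hom.ext hb fun O => ?_
  ext s
  refine sec_ext t f ?_ ?_
  · exact congr($((Scheme.Hom.congr_app h₁.symm O).symm) s)
  · exact congr($((Scheme.Hom.congr_app h₂.symm O).symm) s)

section desc

variable {t f} {Z : Scheme.{u}} {k : X' ⟶ Z} {h : Y ⟶ Z} (w : t ≫ k = f ≫ h)
include w

theorem pre_le (O : Z.Opens) : pre t f (h ⁻¹ᵁ O) ≤ k ⁻¹ᵁ O := fun p (hp : h (gMap t f p) ∈ O) => by
  obtain ⟨q, rfl⟩ := t.surjective p
  rw [gMap_t] at hp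
  change k (t q) ∈ O
  have h1 : k (t q) = h (f q) := congr($w q)
  rwa [h1]

theorem desc_mem (O : Z.Opens) (s : Γ(Z, O)) :
    (h.app O s, k.appLE O (pre t f (h ⁻¹ᵁ O)) (pre_le w O) s) ∈ sec t f (h ⁻¹ᵁ O) := by
  rw [mem_sec, Scheme.Hom.app_eq_appLE, ← ConcreteCategory.comp_apply, ← ConcreteCategory.comp_apply,
    Scheme.Hom.appLE_comp_appLE, Scheme.Hom.appLE_comp_appLE]
  exact congr($(appLE_congr_hom w _ _ _) s).symm
where
  appLE_congr_hom {P Q : Scheme.{u}} {a b : P ⟶ Q} (e : a = b) (U : Q.Opens) (V : P.Opens)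
      (h₁ : V ≤ a ⁻¹ᵁ U) : a.appLE U V h₁ = b.appLE U V (e ▸ h₁) := by
    subst e
    rfl

/-- The morphism out of the pushout, as a morphism of presheafed spaces. -/
noncomputable def descHom : (psp t f).Hom Z.toPresheafedSpace where
  base := h.base
  c :=
    { app := fun O => CommRingCat.ofHom (RingHom.codRestrict
        (RingHom.prod (h.app O.unop).hom (k.appLE O.unop _ (pre_le w O.unop)).hom) _ (desc_mem w O.unop))
      naturality := fun O O' i => by
        ext s
        refine sec_ext t f ?_ ?_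
        · exact congr($(h.naturality i) s)
        · change k.appLE O'.unop _ _ (Z.presheaf.map i s) =
            X'.presheaf.map (homOfLE (pre_mono t f (h.preimage_mono i.unop.le))).op (k.appLE O.unop _ _ s)
          rw [res_appLE]
          exact congr($(k.map_appLE _ i) s) }

theorem isLocalHom_descHom (y : Y) : IsLocalHom ((descHom w).stalkMap y).hom := by
  constructor
  intro σ hσ
  obtain ⟨O, hy, s, rfl⟩ := Z.presheaf.exists_germ_eq σ
  have h1 : (descHom w).stalkMap y (Z.presheaf.germ O (h y) hy s) =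
      (presheaf t f).germ (h ⁻¹ᵁ O) y hy ((descHom w).c.app (op O) s) :=
    congr($(PresheafedSpace.stalkMap_germ (descHom w) O y hy) s)
  have h2 := PresheafedSpace.stalkMap_germ (bHom t f) (h ⁻¹ᵁ O) y hy
  change IsUnit ((descHom w).stalkMap y (Z.presheaf.germ O (h y) hy s)) at hσ
  rw [h1] at hσ
  have h3 := hσ.map ((bHom t f).stalkMap y).hom
  change IsUnit ((bHom t f).stalkMap y ((presheaf t f).germ (h ⁻¹ᵁ O) y hy ((descHom w).c.app (op O) s))) at h3
  rw [show (bHom t f).stalkMap y ((presheaf t f).germ (h ⁻¹ᵁ O) y hy ((descHom w).c.app (op O) s)) =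
      Y.presheaf.germ (h ⁻¹ᵁ O) y hy (h.app O s) from congr($(h2) ((descHom w).c.app (op O) s))] at h3
  rw [← Scheme.Hom.germ_stalkMap_apply h O y hy] at h3
  exact isUnit_of_map_unit (h.stalkMap y).hom _ h3

/-- The morphism out of the pushout. -/
noncomputable def descMor : scheme t f ⟶ Z := ⟨⟨descHom w, isLocalHom_descHom w⟩⟩

theorem bMor_descMor : bMor t f ≫ descMor w = h := by
  refine Scheme.Hom.ext rfl fun O => ?_
  ext s
  change Y.presheaf.map _ (h.app O s) = h.app O s
  exact congr($(Y.presheaf.map_id _) (h.app O s))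

theorem gMor_descMor : gMor t f ≫ descMor w = k := by
  have hb : (gMor t f ≫ descMor w).base = k.base := TopCat.ext fun p => by
    obtain ⟨q, rfl⟩ := t.surjective p
    change h (gMap t f (t q)) = k (t q)
    rw [gMap_t]
    exact congr($(w.symm) q)
  refine Scheme.Hom.ext hb fun O => ?_
  ext s
  change X'.presheaf.map _ (k.appLE O _ (pre_le w O) s) = k.app O s
  exact (congr($(k.appLE_map (pre_le w O) _) s)).trans congr($((k.app_eq_appLE (U := O)).symm) s)

end desc

theorem isPushout : IsPushout t f (gMor t f) (bMor t f) :=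
  IsPushout.of_isColimit' ⟨condition t f⟩ <| PushoutCocone.IsColimit.mk _
    (fun s => descMor s.condition) (fun s => gMor_descMor s.condition)
    (fun s => bMor_descMor s.condition)
    fun s m h₁ h₂ => hom_ext t f (h₂.trans (bMor_descMor s.condition).symm)
      (h₁.trans (gMor_descMor s.condition).symm)

theorem app_eq_zero_of_mem_ker {T : Scheme.{u}} {u : T ⟶ X'} {v : T ⟶ Y}
    (e : u ≫ gMor t f = v ≫ bMor t f) {V : Y.Opens} (hV : IsAffineOpen V) {a : Γ(X', pre t f V)}
    (ha : a ∈ t.ker.ideal ⟨pre t f V, isAffineOpen_pre t f hV⟩) : u.app (pre t f V) a = 0 := by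
  rw [Scheme.Hom.ker_apply, RingHom.mem_ker] at ha
  let z : sec t f V := ⟨(0, a), by
    rw [mem_sec, map_zero, Scheme.Hom.appLE]
    change 0 = X.presheaf.map (homOfLE (le_pre t f V)).op (t.app (pre t f V) a)
    rw [show t.app (pre t f V) a = 0 from ha, map_zero]⟩
  have h1 := congr($(Scheme.Hom.congr_app e V) z)
  change u.app (pre t f V) a = T.presheaf.map _ (v.app V (0 : Γ(Y, V))) at h1
  simpa using h1

theorem ker_le {T : Scheme.{u}} {u : T ⟶ X'} {v : T ⟶ Y} (e : u ≫ gMor t f = v ≫ bMor t f) :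
    t.ker ≤ u.ker := by
  refine Scheme.IdealSheafData.le_ofIdeals_iff.2 fun U a ha => ?_
  rw [RingHom.mem_ker]
  have hcov : ∀ q : (u ⁻¹ᵁ U.1 : T.Opens), ∃ W : X'.affineOpens, u q.1 ∈ W.1 ∧ ∃ hW : W.1 ≤ U.1,
      t.ker.ideal W ≤ RingHom.ker (u.app W.1).hom := fun q => by
    obtain ⟨V, hV, hp, -⟩ :=
      exists_isAffineOpen_mem_and_subset (X := Y) (x := gMap t f (u q.1)) (U := ⊤) trivial
    obtain ⟨rU, rV, he, hq⟩ := exists_basicOpen_le_affine_inter U.2 (isAffineOpen_pre t f hV) (u q.1)
      ⟨q.2, hp⟩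
    let PV : X'.affineOpens := ⟨pre t f V, isAffineOpen_pre t f hV⟩
    refine ⟨X'.affineBasicOpen (U := PV) rV, ?_, ?_, ?_⟩
    · change u q.1 ∈ X'.basicOpen rV
      rw [← he]; exact hq
    · change X'.basicOpen rV ≤ U.1
      rw [← he]; exact X'.basicOpen_le rU
    have hle : X'.affineBasicOpen (U := PV) rV ≤ PV := X'.basicOpen_le rV
    rw [← t.ker.map_ideal hle, Ideal.map_le_iff_le_comap]
    intro b hb
    rw [Ideal.mem_comap, RingHom.mem_ker]
    have h2 := app_eq_zero_of_mem_ker t f e hV hb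
    have hle' : X'.basicOpen rV ≤ pre t f V := X'.basicOpen_le rV
    have h3 := congr($(u.naturality (homOfLE hle').op) b)
    rw [ConcreteCategory.comp_apply, ConcreteCategory.comp_apply] at h3
    change u.app (X'.basicOpen rV) (X'.presheaf.map (homOfLE hle').op b) = 0
    rw [h3, h2, map_zero]
  choose W hqW hWU hW using hcov
  refine TopCat.Sheaf.eq_of_locally_eq' T.sheaf (fun q => u ⁻¹ᵁ (W q).1) (u ⁻¹ᵁ U.1)
    (fun q => homOfLE (u.preimage_mono (hWU q))) (fun q hq => Opens.mem_iSup.2 ⟨⟨q, hq⟩, hqW _⟩)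
    _ _ fun q => ?_
  refine (congr($(u.naturality (homOfLE (hWU q)).op) a).symm.trans ?_).trans (map_zero _).symm
  exact hW q (t.ker.ideal_le_comap_ideal (hWU q) ha)

theorem isPullback : IsPullback t f (gMor t f) (bMor t f) :=
  IsPullback.of_isLimit' ⟨condition t f⟩ <| PullbackCone.IsLimit.mk _
    (fun s => IsClosedImmersion.lift t s.fst (ker_le t f s.condition))
    (fun s => IsClosedImmersion.lift_fac _ _ _)
    (fun s => by
      rw [← cancel_mono (bMor t f), Category.assoc, ← condition, ← Category.assoc,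
        IsClosedImmersion.lift_fac, s.condition])
    fun s m h₁ h₂ => by
      rw [← cancel_mono t, IsClosedImmersion.lift_fac, h₁]

end Groth.Agent.ThickPush
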