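import Groth.Agent.ThickPush.Space
import Groth.Agent.ThickAffine.Main

/-!
# Sections of the pushout on basic opens
-/

set_option autoImplicit false
set_option linter.unusedSectionVars false
universe u

open CategoryTheory CategoryTheory.Limits AlgebraicGeometry TopologicalSpace Opposite

namespace Groth.Agent.ThickPush

variable {X X' Y : Scheme.{u}} (t : X ⟶ X') [IsClosedImmersion t] [Surjective t] (f : X ⟶ Y)
variable [IsAffineHom f]

theorem preimage_pre (O : Y.Opens) : t ⁻¹ᵁ pre t f O = f ⁻¹ᵁ O :=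
  le_antisymm (fun p (hp : gMap t f (t p) ∈ O) => show f p ∈ O by rwa [gMap_t] at hp) (le_pre t f O)

theorem isAffineOpen_pre {V : Y.Opens} (hV : IsAffineOpen V) : IsAffineOpen (pre t f V) := by
  haveI : IsAffine (t ⁻¹ᵁ pre t f V : X.Opens).toScheme := by
    rw [preimage_pre]
    exact hV.preimage f
  haveI : IsClosedImmersion (t ∣_ pre t f V) :=
    MorphismProperty.of_isPullback (P := @IsClosedImmersion) (isPullback_morphismRestrict t _).flip inferInstance
  exact Groth.Agent.ThickAffine.isAffine_of_surjective (t ∣_ pre t f V)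
    ((MorphismProperty.of_isPullback (P := @Surjective) (isPullback_morphismRestrict t _).flip inferInstance :
      Surjective (t ∣_ pre t f V)).surj)

theorem preimage_basicOpen_fst {V : Y.Opens} (z : sec t f V) :
    f ⁻¹ᵁ Y.basicOpen z.1.1 = X.basicOpen (f.appLE V (f ⁻¹ᵁ V) le_rfl z.1.1) := by
  rw [Scheme.preimage_basicOpen, show f.app V z.1.1 = f.appLE V (f ⁻¹ᵁ V) le_rfl z.1.1 from
    congr($(Scheme.Hom.app_eq_appLE f (U := V)) z.1.1)]

theorem pre_basicOpen {V : Y.Opens} (z : sec t f V) :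
    pre t f (Y.basicOpen z.1.1) = X'.basicOpen z.1.2 := by
  have h : t ⁻¹ᵁ X'.basicOpen z.1.2 = t ⁻¹ᵁ pre t f (Y.basicOpen z.1.1) := by
    rw [preimage_pre, preimage_basicOpen_fst, sec_prop, Scheme.preimage_basicOpen, Scheme.Hom.appLE]
    change X.basicOpen (t.app (pre t f V) z.1.2) =
      X.basicOpen (X.presheaf.map (homOfLE (le_pre t f V)).op (t.app (pre t f V) z.1.2))
    rw [Scheme.basicOpen_res]
    exact (inf_eq_right.2 ((X.basicOpen_le _).trans (preimage_pre t f V).le)).symm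
  exact Opens.ext (Set.ext fun p => by
    obtain ⟨q, rfl⟩ := t.surjective p
    exact (SetLike.ext_iff.1 h q).symm)

/-- Sections over a basic open are a localisation. -/
theorem away {V : Y.Opens} (hV : IsAffineOpen V) (r : sec t f V) {W : Y.Opens} (hW : W ≤ V)
    (e : W = Y.basicOpen r.1.1) :
    @IsLocalization.Away _ _ r (sec t f W) _ (secRes t f hW).toAlgebra := by
  letI := (secRes t f hW).toAlgebra
  letI := (Y.presheaf.map (homOfLE hW).op).hom.toAlgebra
  letI := (X'.presheaf.map (homOfLE (pre_mono t f hW)).op).hom.toAlgebra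
  letI := (X.presheaf.map (homOfLE (f.preimage_mono hW)).op).hom.toAlgebra
  have hY : IsLocalization.Away r.1.1 Γ(Y, W) := hV.isLocalization_of_eq_basicOpen _ (homOfLE hW) e
  have hX' : IsLocalization.Away r.1.2 Γ(X', pre t f W) :=
    (isAffineOpen_pre t f hV).isLocalization_of_eq_basicOpen _ (homOfLE (pre_mono t f hW))
      (by rw [e, pre_basicOpen])
  let rX := f.appLE V (f ⁻¹ᵁ V) le_rfl r.1.1
  have hX : IsLocalization.Away rX Γ(X, f ⁻¹ᵁ W) :=
    (hV.preimage f).isLocalization_of_eq_basicOpen _ (homOfLE (f.preimage_mono hW))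
      (by rw [e, preimage_basicOpen_fst])
  refine IsLocalization.Away.mk r (isUnit_of_fst t f _ (IsLocalization.Away.algebraMap_isUnit r.1.1)) (fun z => ?_) fun z z' h => ?_
  · obtain ⟨⟨b, ⟨_, n, rfl⟩⟩, hb⟩ := IsLocalization.surj (Submonoid.powers r.1.1) z.1.1
    obtain ⟨⟨a, ⟨_, m, rfl⟩⟩, ha⟩ := IsLocalization.surj (Submonoid.powers r.1.2) z.1.2
    obtain ⟨b', hb''⟩ : ∃ b', b' = r.1.1 ^ m * b := ⟨_, rfl⟩
    obtain ⟨a', ha''⟩ : ∃ a', a' = r.1.2 ^ n * a := ⟨_, rfl⟩
    have hb' : z.1.1 * algebraMap Γ(Y, V) Γ(Y, W) r.1.1 ^ (n + m) = algebraMap Γ(Y, V) Γ(Y, W) b' := by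
      rw [hb'', map_mul, ← hb, map_pow, map_pow]
      ring
    have ha' : z.1.2 * algebraMap Γ(X', pre t f V) Γ(X', pre t f W) r.1.2 ^ (n + m) =
        algebraMap Γ(X', pre t f V) Γ(X', pre t f W) a' := by
      rw [ha'', map_mul, ← ha, map_pow, map_pow]
      ring
    have heq : algebraMap Γ(X, f ⁻¹ᵁ V) Γ(X, f ⁻¹ᵁ W) (f.appLE V (f ⁻¹ᵁ V) le_rfl b') =
        algebraMap Γ(X, f ⁻¹ᵁ V) Γ(X, f ⁻¹ᵁ W) (t.appLE (pre t f V) (f ⁻¹ᵁ V) (le_pre t f V) a') := by
      change X.presheaf.map (homOfLE (f.preimage_mono hW)).op _ = X.presheaf.map (homOfLE (f.preimage_mono hW)).op _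
      rw [res_appLE, res_appLE, ← appLE_res f hW le_rfl, ← appLE_res t (pre_mono t f hW) (le_pre t f W)]
      change f.appLE W (f ⁻¹ᵁ W) le_rfl (algebraMap Γ(Y, V) Γ(Y, W) b') =
        t.appLE (pre t f W) (f ⁻¹ᵁ W) (le_pre t f W) (algebraMap Γ(X', pre t f V) Γ(X', pre t f W) a')
      rw [← hb', ← ha', map_mul, map_mul, map_pow, map_pow, sec_prop]
      exact congrArg (fun w => _ * w ^ (n + m)) (sec_prop t f (secRes t f hW r))
    obtain ⟨⟨_, l, rfl⟩, hl⟩ := IsLocalization.exists_of_eq (M := Submonoid.powers rX) heq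
    have hm : (r.1.1 ^ l * b', r.1.2 ^ l * a') ∈ sec t f V := by
      rw [mem_sec, map_mul, map_mul, map_pow, map_pow, ← sec_prop]
      exact hl
    refine ⟨n + m + l, ⟨_, hm⟩, sec_ext t f ?_ ?_⟩
    · change z.1.1 * algebraMap Γ(Y, V) Γ(Y, W) r.1.1 ^ (n + m + l) =
        algebraMap Γ(Y, V) Γ(Y, W) (r.1.1 ^ l * b')
      rw [map_mul, ← hb', map_pow]
      ring
    · change z.1.2 * algebraMap Γ(X', pre t f V) Γ(X', pre t f W) r.1.2 ^ (n + m + l) =
        algebraMap Γ(X', pre t f V) Γ(X', pre t f W) (r.1.2 ^ l * a')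
      rw [map_mul, ← ha', map_pow]
      ring
  · obtain ⟨⟨_, n, rfl⟩, hn⟩ := IsLocalization.exists_of_eq (M := Submonoid.powers r.1.1)
      (show algebraMap Γ(Y, V) Γ(Y, W) z.1.1 = algebraMap Γ(Y, V) Γ(Y, W) z'.1.1 from
        congrArg (fun w : sec t f W => w.1.1) h)
    obtain ⟨⟨_, m, rfl⟩, hm⟩ := IsLocalization.exists_of_eq (M := Submonoid.powers r.1.2)
      (show algebraMap Γ(X', pre t f V) Γ(X', pre t f W) z.1.2 = algebraMap Γ(X', pre t f V) Γ(X', pre t f W) z'.1.2 from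
        congrArg (fun w : sec t f W => w.1.2) h)
    refine ⟨n + m, sec_ext t f ?_ ?_⟩
    · change r.1.1 ^ (n + m) * z.1.1 = r.1.1 ^ (n + m) * z'.1.1
      linear_combination r.1.1 ^ m * hn
    · change r.1.2 ^ (n + m) * z.1.2 = r.1.2 ^ (n + m) * z'.1.2
      linear_combination r.1.2 ^ n * hm

end Groth.Agent.ThickPush
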