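import Groth.Agent.ThickPush.Away
import Mathlib.AlgebraicGeometry.GammaSpecAdjunction
import Mathlib.RingTheory.Spectrum.Prime.RingHom

/-!
# The pushout of a thickening along an affine morphism is a scheme
-/

set_option autoImplicit false
set_option linter.unusedSectionVars false
set_option backward.isDefEq.respectTransparency false
universe u

open CategoryTheory CategoryTheory.Limits AlgebraicGeometry TopologicalSpace Opposite

namespace Groth.Agent.ThickPush

variable {X X' Y : Scheme.{u}} (t : X ⟶ X') [IsClosedImmersion t] [Surjective t] (f : X ⟶ Y)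
variable [IsAffineHom f]

theorem fst_surjective {V : Y.Opens} (hV : IsAffineOpen V) (b : Γ(Y, V)) :
    ∃ z : sec t f V, z.1.1 = b := by
  obtain ⟨a, ha⟩ := t.app_surjective _ (isAffineOpen_pre t f hV)
    (X.presheaf.map (homOfLE (preimage_pre t f V).le).op (f.appLE V (f ⁻¹ᵁ V) le_rfl b))
  refine ⟨⟨(b, a), ?_⟩, rfl⟩
  rw [mem_sec]
  conv_rhs => rw [Scheme.Hom.appLE]
  change _ = X.presheaf.map (homOfLE (le_pre t f V)).op (t.app (pre t f V) a)
  rw [ha, fn_eq_of_le]
  exact congr($(X.presheaf.map_id _) (f.appLE V (f ⁻¹ᵁ V) le_rfl b)).symm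

theorem isNilpotent_of_fst {V : Y.Opens} (hV : IsAffineOpen V) (z : sec t f V) (h : z.1.1 = 0) :
    IsNilpotent z := by
  have h2 : X'.basicOpen z.1.2 = ⊥ := by
    rw [← pre_basicOpen, h, Scheme.basicOpen_zero]
    exact Opens.ext rfl
  obtain ⟨n, hn⟩ := (Scheme.isNilpotent_iff_basicOpen_eq_bot_of_isCompact
    (isAffineOpen_pre t f hV).isCompact z.1.2).2 h2
  refine ⟨n + 1, sec_ext t f ?_ ?_⟩
  · change z.1.1 ^ (n + 1) = 0
    rw [h, zero_pow (Nat.succ_ne_zero n)]
  · change z.1.2 ^ (n + 1) = 0
    rw [pow_succ, hn, zero_mul]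

variable (V : Y.Opens)

/-- The pushout over an open. -/
noncomputable abbrev piece : LocallyRingedSpace.{u} :=
  (space t f).restrict (f := (Opens.inclusion' V)) V.isOpenEmbedding

/-- `V`, as it appears in restrictions. -/
abbrev top0 : Y.Opens := V.isOpenEmbedding.functor.obj ⊤

theorem top0_eq : top0 V = V := Opens.isOpenEmbedding_obj_top V

theorem mem_basicOpen_piece (r : sec t f (top0 V)) (y : V) :
    y ∈ (piece t f V).toRingedSpace.basicOpen (U := ⊤) r ↔ y.1 ∈ Y.basicOpen r.1.1 := by
  have hy : y.1 ∈ top0 V := by rw [top0_eq]; exact y.2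
  refine Iff.trans (RingedSpace.mem_top_basicOpen (piece t f V).toRingedSpace r y)
    (Iff.trans ?_ (RingedSpace.mem_basicOpen Y.toLocallyRingedSpace.toRingedSpace r.1.1 y.1 hy).symm)
  let e := ((space t f).toPresheafedSpace.restrictStalkIso (f := Opens.inclusion' V) V.isOpenEmbedding y).commRingCatIsoToRingEquiv
  have h1 : e ((piece t f V).presheaf.Γgerm y r) = (presheaf t f).germ (top0 V) y.1 hy r :=
    congr($(PresheafedSpace.restrictStalkIso_hom_eq_germ (space t f).toPresheafedSpace
      (f := Opens.inclusion' V) V.isOpenEmbedding ⊤ y trivial) r)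
  have h2 : (bHom t f).stalkMap y.1 ((presheaf t f).germ (top0 V) y.1 hy r) =
      Y.presheaf.germ (top0 V) y.1 hy r.1.1 :=
    congr($(PresheafedSpace.stalkMap_germ (bHom t f) (top0 V) y.1 hy) r)
  haveI := isLocalHom_bHom t f y.1
  refine Iff.trans (isUnit_map_iff e _).symm ?_
  rw [h1]
  refine Iff.trans (isUnit_map_iff ((bHom t f).stalkMap y.1).hom _).symm ?_
  change IsUnit ((bHom t f).stalkMap y.1 ((presheaf t f).germ (top0 V) y.1 hy r)) ↔ _
  rw [h2]

theorem isHomeomorph_toΓSpec (hV : IsAffineOpen V) :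
    IsHomeomorph (piece t f V).toΓSpecFun := by
  have hV0 : IsAffineOpen (top0 V) := by rw [top0_eq]; exact hV
  let π : sec t f (top0 V) →+* Γ(Y, top0 V) := (RingHom.fst _ _).comp (sec t f (top0 V)).subtype
  have hπs : Function.Surjective π := fun b => fst_surjective t f hV0 b
  have h1 : IsHomeomorph (PrimeSpectrum.comap π) := by
    refine isHomeomorph_iff_isEmbedding_surjective.2
      ⟨(PrimeSpectrum.isClosedEmbedding_comap_of_surjective _ π hπs).isEmbedding, fun P => ?_⟩
    have hP : P ∈ Set.range (PrimeSpectrum.comap π) := by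
      rw [range_comap_of_surjective _ π hπs, PrimeSpectrum.mem_zeroLocus]
      intro z hz
      obtain ⟨n, hn⟩ := isNilpotent_of_fst t f hV0 z hz
      exact P.2.mem_of_pow_mem n (hn ▸ P.asIdeal.zero_mem)
    exact hP
  let c : V ≃ₜ top0 V :=
    { toFun := fun y => ⟨y.1, (top0_eq V).ge y.2⟩
      invFun := fun y => ⟨y.1, (top0_eq V).le y.2⟩
      left_inv := fun y => rfl
      right_inv := fun y => rfl
      continuous_toFun := by fun_prop
      continuous_invFun := by fun_prop }
  have h2 : IsHomeomorph fun y : V => (hV0.primeIdealOf (c y) : PrimeSpectrum Γ(Y, top0 V)) :=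
    (TopCat.homeoOfIso (Scheme.forgetToTop.mapIso hV0.isoSpec)).isHomeomorph.comp c.isHomeomorph
  have key : (piece t f V).toΓSpecFun = fun y : V =>
      PrimeSpectrum.comap π (hV0.primeIdealOf (c y)) := by
    funext y
    refine PrimeSpectrum.ext (Ideal.ext fun r => ?_)
    refine not_iff_not.1 (Iff.trans (LocallyRingedSpace.notMem_prime_iff_unit_in_stalk (piece t f V) r y) ?_)
    refine Iff.trans (RingedSpace.mem_top_basicOpen (piece t f V).toRingedSpace r y).symm ?_
    refine Iff.trans (mem_basicOpen_piece t f V r y) ?_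
    rw [PrimeSpectrum.comap_asIdeal, Ideal.mem_comap, hV0.primeIdealOf_eq_map_closedPoint]
    refine Iff.trans (RingedSpace.mem_basicOpen _ _ _ (c y).2) ?_
    exact (IsLocalRing.notMem_maximalIdeal).symm
  rw [key]
  exact h1.comp h2

theorem bijective_lift {R S T : Type u} [CommRing R] [CommRing S] [CommRing T] [Algebra R S] (r : R)
    [IsLocalization.Away r S] (φ : R →+* T) (hu : IsUnit (φ r))
    (hT : @IsLocalization.Away _ _ r T _ φ.toAlgebra) (ψ : S →+* T)
    (hψ : ψ.comp (algebraMap R S) = φ) : Function.Bijective ψ := by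
  letI := φ.toAlgebra
  have h : ψ = (IsLocalization.algEquiv (Submonoid.powers r) S T).toRingEquiv.toRingHom := by
    refine IsLocalization.ringHom_ext (Submonoid.powers r) ?_
    rw [hψ]
    exact (IsLocalization.algEquiv (Submonoid.powers r) S T).toAlgHom.comp_algebraMap.symm
  rw [h]
  exact (IsLocalization.algEquiv (Submonoid.powers r) S T).bijective

theorem isIso_toΓSpec (hV : IsAffineOpen V) : IsIso (piece t f V).toΓSpec := by
  have hV0 : IsAffineOpen (top0 V) := by rw [top0_eq]; exact hV
  let P := piece t f V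
  haveI hb : IsIso P.toΓSpecBase :=
    (TopCat.isIso_iff_isHomeomorph P.toΓSpecBase).2 (isHomeomorph_toΓSpec t f V hV)
  let c : (AlgebraicGeometry.Spec.structureSheaf (LocallyRingedSpace.Γ.obj (op P))) ⟶
      (TopCat.Sheaf.pushforward _ P.toΓSpecBase).obj P.𝒪 := ⟨P.toΓSpecSheafedSpace.hom.c⟩
  haveI : IsIso c := by
    refine TopCat.Sheaf.isIso_iff_isIso_basis PrimeSpectrum.isBasis_basic_opens fun r => ?_
    change IsIso (P.toΓSpecSheafedSpace.hom.c.app (op (PrimeSpectrum.basicOpen r)))
    rw [LocallyRingedSpace.toΓSpecSheafedSpace_app_eq]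
    refine (ConcreteCategory.isIso_iff_bijective _).2 ?_
    refine bijective_lift (R := LocallyRingedSpace.Γ.obj (op P))
      (S := (AlgebraicGeometry.Spec.structureSheaf (LocallyRingedSpace.Γ.obj (op P))).obj.obj
        (op (PrimeSpectrum.basicOpen r))) r (P.toToΓSpecMapBasicOpen r).hom
      (P.isUnit_res_toΓSpecMapBasicOpen r) ?_ _ ?_
    · refine away t f hV0 r (V.isOpenEmbedding.isOpenMap.functor.map (homOfLE le_top)).le ?_
      refine Opens.ext (Set.ext fun y => ⟨?_, fun hy => ?_⟩)
      · rintro ⟨y, hy, rfl⟩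
        rw [SetLike.mem_coe, P.toΓSpecMapBasicOpen_eq] at hy
        exact (mem_basicOpen_piece t f V r y).1 hy
      · have hyV : y ∈ V := (top0_eq V).le (Y.basicOpen_le _ hy)
        refine ⟨⟨y, hyV⟩, ?_, rfl⟩
        rw [SetLike.mem_coe, P.toΓSpecMapBasicOpen_eq]
        exact (mem_basicOpen_piece t f V r ⟨y, hyV⟩).2 hy
    · exact congrArg CommRingCat.Hom.hom (P.toΓSpecCApp_spec r)
  haveI : IsIso P.toΓSpecSheafedSpace.hom.c := Functor.map_isIso (TopCat.Sheaf.forget CommRingCat _) c
  haveI : IsIso P.toΓSpecSheafedSpace.hom.base := hb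
  haveI : IsIso P.toΓSpecSheafedSpace.hom := PresheafedSpace.isIso_of_components _
  haveI : IsIso (SheafedSpace.forgetToPresheafedSpace.map P.toΓSpecSheafedSpace) := this
  haveI : IsIso P.toΓSpecSheafedSpace := isIso_of_reflects_iso _ SheafedSpace.forgetToPresheafedSpace
  haveI : IsIso (LocallyRingedSpace.forgetToSheafedSpace.map P.toΓSpec) := this
  exact isIso_of_reflects_iso _ LocallyRingedSpace.forgetToSheafedSpace

/-- The pushout as a scheme. -/
noncomputable def scheme : Scheme.{u} where
  toLocallyRingedSpace := space t f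
  local_affine y := by
    obtain ⟨V, hV, hy, -⟩ := exists_isAffineOpen_mem_and_subset (X := Y) (x := y) (U := ⊤) trivial
    haveI := isIso_toΓSpec t f V hV
    exact ⟨⟨V, hy⟩, LocallyRingedSpace.Γ.obj (op (piece t f V)), ⟨asIso (piece t f V).toΓSpec⟩⟩

/-- The map from `Y`. -/
noncomputable def bMor : Y ⟶ scheme t f := ⟨bL t f⟩

/-- The map from the thickening. -/
noncomputable def gMor : X' ⟶ scheme t f := ⟨gL t f⟩

end Groth.Agent.ThickPush
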