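import Mathlib.AlgebraicGeometry.Morphisms.ClosedImmersion
import Mathlib.AlgebraicGeometry.Morphisms.UnderlyingMap
import Mathlib.Geometry.RingedSpace.Stalks

/-!
# The pushout of a thickening, as a locally ringed space
-/

set_option autoImplicit false
set_option linter.unusedSectionVars false
universe u

open CategoryTheory CategoryTheory.Limits AlgebraicGeometry TopologicalSpace Opposite

namespace Groth.Agent.ThickPush

variable {X X' Y : Scheme.{u}} (t : X ⟶ X') [IsClosedImmersion t] [Surjective t] (f : X ⟶ Y)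

/-- A thickening is a homeomorphism. -/
noncomputable def homeo : X ≃ₜ X' :=
  t.isClosedEmbedding.isEmbedding.toHomeomorphOfSurjective t.surjective

/-- The map from the thickening. -/
noncomputable def gMap : X'.toTopCat ⟶ Y.toTopCat :=
  TopCat.ofHom ⟨fun p => f ((homeo t).symm p), f.continuous.comp (homeo t).symm.continuous⟩

theorem gMap_t (p : X) : gMap t f (t p) = f p :=
  congrArg f ((homeo t).symm_apply_apply p)

/-- Preimages in the thickening. -/
noncomputable def pre (O : Y.Opens) : X'.Opens := (Opens.map (gMap t f)).obj O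

theorem le_pre (O : Y.Opens) : f ⁻¹ᵁ O ≤ t ⁻¹ᵁ pre t f O := fun p (hp : f p ∈ O) =>
  show gMap t f (t p) ∈ O by rwa [gMap_t]

theorem pre_mono {O O' : Y.Opens} (h : O' ≤ O) : pre t f O' ≤ pre t f O := fun _ hp => h hp

theorem fn_eq_of_le {S : Scheme.{u}} {A B C : S.Opens} (h₁ : B ≤ A) (h₂ : C ≤ B) (s : Γ(S, A)) :
    S.presheaf.map (homOfLE h₂).op (S.presheaf.map (homOfLE h₁).op s) =
      S.presheaf.map (homOfLE (h₂.trans h₁)).op s := by
  rw [← ConcreteCategory.comp_apply, ← Functor.map_comp]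
  rfl

theorem res_appLE {S T : Scheme.{u}} (j : S ⟶ T) {W : T.Opens} {V V' : S.Opens} (hV : V' ≤ V)
    (e : V ≤ j ⁻¹ᵁ W) (s : Γ(T, W)) :
    S.presheaf.map (homOfLE hV).op (j.appLE W V e s) = j.appLE W V' (hV.trans e) s :=
  congr(($(Scheme.Hom.appLE_map j e (homOfLE hV).op)) s)

theorem appLE_res {S T : Scheme.{u}} (j : S ⟶ T) {W W' : T.Opens} {V : S.Opens} (hW : W' ≤ W)
    (e : V ≤ j ⁻¹ᵁ W') (s : Γ(T, W)) :
    j.appLE W' V e (T.presheaf.map (homOfLE hW).op s) = j.appLE W V (e.trans (j.preimage_mono hW)) s :=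
  congr(($(Scheme.Hom.map_appLE j e (homOfLE hW).op)) s)

/-- Compatible pairs of sections. -/
noncomputable def sec (O : Y.Opens) : Subring (Γ(Y, O) × Γ(X', pre t f O)) :=
  RingHom.eqLocus ((f.appLE O (f ⁻¹ᵁ O) le_rfl).hom.comp (RingHom.fst _ _))
    ((t.appLE (pre t f O) (f ⁻¹ᵁ O) (le_pre t f O)).hom.comp (RingHom.snd _ _))

theorem mem_sec {O : Y.Opens} {b : Γ(Y, O)} {a : Γ(X', pre t f O)} :
    (b, a) ∈ sec t f O ↔ f.appLE O (f ⁻¹ᵁ O) le_rfl b = t.appLE (pre t f O) (f ⁻¹ᵁ O) (le_pre t f O) a :=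
  Iff.rfl

theorem sec_prop {O : Y.Opens} (z : sec t f O) :
    f.appLE O (f ⁻¹ᵁ O) le_rfl z.1.1 = t.appLE (pre t f O) (f ⁻¹ᵁ O) (le_pre t f O) z.1.2 := z.2

theorem res_mem {O O' : Y.Opens} (h : O' ≤ O) (z : sec t f O) :
    (Y.presheaf.map (homOfLE h).op z.1.1, X'.presheaf.map (homOfLE (pre_mono t f h)).op z.1.2) ∈
      sec t f O' := by
  rw [mem_sec, appLE_res, appLE_res, ← res_appLE f (f.preimage_mono h) le_rfl,
    ← res_appLE t (f.preimage_mono h) (le_pre t f O), sec_prop]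

/-- Restriction. -/
noncomputable def secRes {O O' : Y.Opens} (h : O' ≤ O) : sec t f O →+* sec t f O' :=
  RingHom.codRestrict ((RingHom.prodMap (Y.presheaf.map (homOfLE h).op).hom
    (X'.presheaf.map (homOfLE (pre_mono t f h)).op).hom).comp (sec t f O).subtype) _ (res_mem t f h)

theorem secRes_fst {O O' : Y.Opens} (h : O' ≤ O) (z : sec t f O) :
    (secRes t f h z).1.1 = Y.presheaf.map (homOfLE h).op z.1.1 := rfl

theorem secRes_snd {O O' : Y.Opens} (h : O' ≤ O) (z : sec t f O) :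
    (secRes t f h z).1.2 = X'.presheaf.map (homOfLE (pre_mono t f h)).op z.1.2 := rfl

theorem sec_ext {O : Y.Opens} {z z' : sec t f O} (h₁ : z.1.1 = z'.1.1) (h₂ : z.1.2 = z'.1.2) : z = z' :=
  Subtype.ext (Prod.ext h₁ h₂)

/-- The structure presheaf of the pushout. -/
noncomputable def presheaf : TopCat.Presheaf CommRingCat.{u} Y.toTopCat where
  obj O := CommRingCat.of (sec t f O.unop)
  map i := CommRingCat.ofHom (secRes t f i.unop.le)
  map_id O := by
    ext z
    · exact congr($(Y.presheaf.map_id _) z.1.1)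
    · exact congr($(X'.presheaf.map_id _) z.1.2)
  map_comp i j := by
    ext z
    · exact (fn_eq_of_le i.unop.le j.unop.le z.1.1).symm
    · exact (fn_eq_of_le (pre_mono t f i.unop.le) (pre_mono t f j.unop.le) z.1.2).symm

theorem isSheaf : (presheaf t f).IsSheaf := by
  rw [TopCat.Presheaf.isSheaf_iff_isSheafUniqueGluing]
  intro ι U sf hsf
  have hpre : pre t f (iSup U) ≤ iSup fun i => pre t f (U i) := fun p hp => by
    obtain ⟨i, hi⟩ := Opens.mem_iSup.1 (show gMap t f p ∈ iSup U from hp)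
    exact Opens.mem_iSup.2 ⟨i, hi⟩
  obtain ⟨b, hb, hbu⟩ := TopCat.Sheaf.existsUnique_gluing' Y.sheaf U (iSup U)
    (fun i => homOfLE (le_iSup U i)) le_rfl (fun i => (sf i).1.1)
    (fun i j => congrArg (fun z : sec t f (U i ⊓ U j) => z.1.1) (hsf i j))
  obtain ⟨a, ha, hau⟩ := TopCat.Sheaf.existsUnique_gluing' X'.sheaf (fun i => pre t f (U i))
    (pre t f (iSup U)) (fun i => homOfLE (pre_mono t f (le_iSup U i))) hpre (fun i => (sf i).1.2)
    (fun i j => congrArg (fun z : sec t f (U i ⊓ U j) => z.1.2) (hsf i j))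
  have hm : (b, a) ∈ sec t f (iSup U) := by
    refine TopCat.Sheaf.eq_of_locally_eq' X.sheaf (fun i => f ⁻¹ᵁ U i) (f ⁻¹ᵁ iSup U)
      (fun i => homOfLE (f.preimage_mono (le_iSup U i))) (fun p hp => ?_) _ _ fun i => ?_
    · obtain ⟨i, hi⟩ := Opens.mem_iSup.1 (show f p ∈ iSup U from hp)
      exact Opens.mem_iSup.2 ⟨i, hi⟩
    · change X.presheaf.map (homOfLE (f.preimage_mono (le_iSup U i))).op
          (f.appLE (iSup U) (f ⁻¹ᵁ iSup U) le_rfl b) =
        X.presheaf.map (homOfLE (f.preimage_mono (le_iSup U i))).op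
          (t.appLE (pre t f (iSup U)) (f ⁻¹ᵁ iSup U) (le_pre t f _) a)
      have hb' : Y.presheaf.map (homOfLE (le_iSup U i)).op b = (sf i).1.1 := hb i
      have ha' : X'.presheaf.map (homOfLE (pre_mono t f (le_iSup U i))).op a = (sf i).1.2 := ha i
      rw [res_appLE, res_appLE, ← appLE_res f (le_iSup U i) le_rfl,
        ← appLE_res t (pre_mono t f (le_iSup U i)) (le_pre t f (U i)), hb', ha']
      exact sec_prop t f (sf i)
  refine ⟨(⟨(b, a), hm⟩ : sec t f (iSup U)), fun i => sec_ext t f (hb i) (ha i), fun z hz => ?_⟩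
  exact sec_ext t f (hbu _ fun i => congrArg (fun w : sec t f (U i) => w.1.1) (hz i))
    (hau _ fun i => congrArg (fun w : sec t f (U i) => w.1.2) (hz i))

/-- The pushout as a presheafed space. -/
noncomputable def psp : PresheafedSpace.{u} CommRingCat.{u} := ⟨Y.toTopCat, presheaf t f⟩

/-- The projection. -/
noncomputable def bHom : Y.toPresheafedSpace.Hom (psp t f) where
  base := 𝟙 _
  c :=
    { app := fun O => CommRingCat.ofHom ((RingHom.fst _ _).comp (sec t f O.unop).subtype)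
      naturality := fun O O' i => by
        ext z
        rfl }

theorem isUnit_of_fst {O : Y.Opens} (z : sec t f O) (h : IsUnit z.1.1) : IsUnit z := by
  have h2 : IsUnit z.1.2 := by
    refine RingedSpace.isUnit_of_isUnit_germ X'.toLocallyRingedSpace.toRingedSpace _ _ fun p hp => ?_
    obtain ⟨q, rfl⟩ := t.surjective p
    have hq : q ∈ f ⁻¹ᵁ O := by
      change f q ∈ O
      rw [← gMap_t t f]
      exact hp
    refine isUnit_of_map_unit (t.stalkMap q).hom _ ?_
    have h3 : IsUnit (t.appLE (pre t f O) (f ⁻¹ᵁ O) (le_pre t f O) z.1.2) := by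
      rw [← sec_prop]
      exact h.map (f.appLE O (f ⁻¹ᵁ O) le_rfl).hom
    have h4 := h3.map (X.presheaf.germ (f ⁻¹ᵁ O) q hq).hom
    rw [Scheme.Hom.appLE] at h4
    change IsUnit (X.presheaf.germ (f ⁻¹ᵁ O) q hq
      (X.presheaf.map (homOfLE (le_pre t f O)).op (t.app (pre t f O) z.1.2))) at h4
    rw [TopCat.Presheaf.germ_res_apply] at h4
    change IsUnit (t.stalkMap q (X'.presheaf.germ (pre t f O) (t q) hp z.1.2))
    rwa [Scheme.Hom.germ_stalkMap_apply]
  obtain ⟨b', hb'⟩ := h.exists_right_inv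
  obtain ⟨a', ha'⟩ := h2.exists_right_inv
  have hm : (b', a') ∈ sec t f O := by
    have hu : IsUnit (f.appLE O (f ⁻¹ᵁ O) le_rfl z.1.1) := h.map (f.appLE O (f ⁻¹ᵁ O) le_rfl).hom
    refine hu.mul_left_cancel ?_
    change f.appLE O (f ⁻¹ᵁ O) le_rfl z.1.1 * f.appLE O (f ⁻¹ᵁ O) le_rfl b' =
      f.appLE O (f ⁻¹ᵁ O) le_rfl z.1.1 * t.appLE (pre t f O) (f ⁻¹ᵁ O) (le_pre t f O) a'
    conv_rhs => rw [sec_prop]
    rw [← map_mul, ← map_mul, hb', ha', map_one, map_one]
  exact .of_mul_eq_one (⟨(b', a'), hm⟩ : sec t f O) (sec_ext t f hb' ha')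

theorem isLocalHom_bHom (y : Y) : IsLocalHom ((bHom t f).stalkMap y).hom := by
  constructor
  intro σ hσ
  obtain ⟨O, hy, z, rfl⟩ := (presheaf t f).exists_germ_eq σ
  have h1 : (bHom t f).stalkMap y ((presheaf t f).germ O y hy z) = Y.presheaf.germ O y hy z.1.1 :=
    congr($(PresheafedSpace.stalkMap_germ (bHom t f) O y hy) z)
  change IsUnit ((bHom t f).stalkMap y ((presheaf t f).germ O y hy z)) at hσ
  rw [h1] at hσ
  obtain ⟨V, i, hyV, hV⟩ :=
    RingedSpace.isUnit_res_of_isUnit_germ Y.toLocallyRingedSpace.toRingedSpace O z.1.1 y hy hσ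
  have h2 : IsUnit (secRes t f i.le z) := isUnit_of_fst t f _ hV
  have h3 : (presheaf t f).germ V y hyV (secRes t f i.le z) = (presheaf t f).germ O y hy z :=
    congr($((presheaf t f).germ_res (homOfLE i.le) y hyV) z)
  exact Eq.subst (motive := IsUnit) h3 (h2.map ((presheaf t f).germ V y hyV).hom)

/-- The pushout as a locally ringed space. -/
noncomputable def space : LocallyRingedSpace.{u} where
  toSheafedSpace := ⟨psp t f, isSheaf t f⟩
  isLocalRing y := by
    haveI := isLocalHom_bHom t f y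
    exact ((bHom t f).stalkMap y).hom.domain_isLocalRing

/-- The map from `Y`. -/
noncomputable def bL : Y.toLocallyRingedSpace ⟶ space t f :=
  ⟨bHom t f, isLocalHom_bHom t f⟩

/-- The second projection. -/
noncomputable def gHom : X'.toPresheafedSpace.Hom (psp t f) where
  base := gMap t f
  c :=
    { app := fun O => CommRingCat.ofHom ((RingHom.snd _ _).comp (sec t f O.unop).subtype)
      naturality := fun O O' i => by
        ext z
        rfl }

theorem isLocalHom_gHom (p : X') : IsLocalHom ((gHom t f).stalkMap p).hom := by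
  constructor
  intro σ hσ
  obtain ⟨O, hy, z, rfl⟩ := (presheaf t f).exists_germ_eq σ
  have h1 : (gHom t f).stalkMap p ((presheaf t f).germ O (gMap t f p) hy z) =
      X'.presheaf.germ (pre t f O) p hy z.1.2 :=
    congr($(PresheafedSpace.stalkMap_germ (gHom t f) O p hy) z)
  change IsUnit ((gHom t f).stalkMap p ((presheaf t f).germ O (gMap t f p) hy z)) at hσ
  rw [h1] at hσ
  haveI := isLocalHom_bHom t f (gMap t f p)
  refine isUnit_of_map_unit ((bHom t f).stalkMap (gMap t f p)).hom _ ?_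
  have h2 : (bHom t f).stalkMap (gMap t f p) ((presheaf t f).germ O (gMap t f p) hy z) =
      Y.presheaf.germ O (gMap t f p) hy z.1.1 :=
    congr($(PresheafedSpace.stalkMap_germ (bHom t f) O (gMap t f p) hy) z)
  change IsUnit ((bHom t f).stalkMap (gMap t f p) ((presheaf t f).germ O (gMap t f p) hy z))
  rw [h2]
  obtain ⟨q, rfl⟩ := t.surjective p
  have hq : q ∈ f ⁻¹ᵁ O := by
    change f q ∈ O
    rw [← gMap_t t f]
    exact hy
  have hy' : f q ∈ O := hq
  have h4 : IsUnit (X.presheaf.germ (f ⁻¹ᵁ O) q hq (t.appLE (pre t f O) (f ⁻¹ᵁ O) (le_pre t f O) z.1.2)) := by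
    rw [Scheme.Hom.appLE]
    change IsUnit (X.presheaf.germ (f ⁻¹ᵁ O) q hq
      (X.presheaf.map (homOfLE (le_pre t f O)).op (t.app (pre t f O) z.1.2)))
    rw [TopCat.Presheaf.germ_res_apply, ← Scheme.Hom.germ_stalkMap_apply t (pre t f O) q hy]
    exact hσ.map (t.stalkMap q).hom
  rw [← sec_prop] at h4
  have h5 : f.appLE O (f ⁻¹ᵁ O) le_rfl z.1.1 = f.app O z.1.1 :=
    congr($((Scheme.Hom.app_eq_appLE f (U := O)).symm) z.1.1)
  rw [h5, ← Scheme.Hom.germ_stalkMap_apply f O q hy'] at h4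
  have h6 := isUnit_of_map_unit (f.stalkMap q).hom _ h4
  have key : ∀ (y : Y) (hy₂ : y ∈ O), y = f q → IsUnit (Y.presheaf.germ O y hy₂ z.1.1) := by
    rintro y hy₂ rfl
    exact h6
  exact key _ hy (gMap_t t f q)

/-- The map from the thickening. -/
noncomputable def gL : X'.toLocallyRingedSpace ⟶ space t f :=
  ⟨gHom t f, isLocalHom_gHom t f⟩

end Groth.Agent.ThickPush
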